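import Cfsg.Agent.H672.OZ.Full
import Cfsg.Agent.H733.OZ.Good
import Cfsg.Agent.H635.SporFast
import Cfsg.Agent.H715.Mon.Norm
import Cfsg.Agent.H954.DR.CentB
import Cfsg.Agent.OrdDiv.Table
import Cfsg.Agent.H995.CopCoprime

/-!
# One vanishing class: the Baby Monster (helper601, S4842)

`|C(z)| = 38, 46, 31, 47` for `z` of order `19, 23, 31, 47` (helper715, helper954), the theorems of helper849 on primes which
divide the order once and `not_full` (helper672) leave no degree.
-/

set_option autoImplicit false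
set_option maxRecDepth 100000

open Cfsg Cfsg.Agent.Characters Cfsg.Agent.H732.VZ Cfsg.Agent.H604.OZ Cfsg.Agent.H672.OZ

namespace Cfsg.Agent.H601.OZ

universe u

/-- the order -/
abbrev NB : ℕ := 4154781481226426191177580544000000

/-- the primes -/
theorem prime_cases {r : ℕ} (hr : r.Prime) (h : r ∣ NB) : r = 2 ∨ r = 3 ∨ r = 5 ∨ r = 7 ∨ r = 11 ∨ r = 13 ∨ r = 17 ∨
    r = 19 ∨ r = 23 ∨ r = 31 ∨ r = 47 := by
  have e : NB = 2 ^ 41 * (3 ^ 13 * (5 ^ 6 * (7 ^ 2 * (11 * (13 * (17 * (19 * (23 * (31 * 47))))))))) := by norm_num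
  rw [e] at h
  have k : ∀ {s : ℕ}, s.Prime → r ∣ s → r = s := fun hs h => (Nat.prime_dvd_prime_iff_eq hr hs).1 h
  rcases hr.dvd_mul.1 h with h | h
  · exact .inl (k (by norm_num) (hr.dvd_of_dvd_pow h))
  rcases hr.dvd_mul.1 h with h | h
  · exact .inr (.inl (k (by norm_num) (hr.dvd_of_dvd_pow h)))
  rcases hr.dvd_mul.1 h with h | h
  · exact .inr (.inr (.inl (k (by norm_num) (hr.dvd_of_dvd_pow h))))
  rcases hr.dvd_mul.1 h with h | h
  · exact .inr (.inr (.inr (.inl (k (by norm_num) (hr.dvd_of_dvd_pow h)))))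
  rcases hr.dvd_mul.1 h with h | h
  · exact .inr (.inr (.inr (.inr (.inl (k (by norm_num) h)))))
  rcases hr.dvd_mul.1 h with h | h
  · exact .inr (.inr (.inr (.inr (.inr (.inl (k (by norm_num) h))))))
  rcases hr.dvd_mul.1 h with h | h
  · exact .inr (.inr (.inr (.inr (.inr (.inr (.inl (k (by norm_num) h)))))))
  rcases hr.dvd_mul.1 h with h | h
  · exact .inr (.inr (.inr (.inr (.inr (.inr (.inr (.inl (k (by norm_num) h))))))))
  rcases hr.dvd_mul.1 h with h | h
  · exact .inr (.inr (.inr (.inr (.inr (.inr (.inr (.inr (.inl (k (by norm_num) h)))))))))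
  rcases hr.dvd_mul.1 h with h | h
  · exact .inr (.inr (.inr (.inr (.inr (.inr (.inr (.inr (.inr (.inl (k (by norm_num) h))))))))))
  · exact .inr (.inr (.inr (.inr (.inr (.inr (.inr (.inr (.inr (.inr (k (by norm_num) h))))))))))

/-- `d = ± 1` modulo `r` -/
def pm (r d : ℕ) : Bool := Nat.beq (Nat.mod d r) 1 || Nat.beq (Nat.mod d r) (Nat.sub r 1)

/-- the test -/
def tst (d : ℕ) : Bool := Nat.ble d 1 || !(pm 47 d && (pm 31 d && (pm 23 d && pm 19 d)))

theorem sieve : Cfsg.Agent.H635.Spor.allF NB tst [(2, 40), (3, 12), (5, 5), (7, 1)] 1 = true := by decide +kernel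

theorem pm_of {r d : ℕ} (h : d % r = 1 ∨ d % r = r - 1) : pm r d = true := by
  unfold pm
  rw [Bool.or_eq_true]
  rcases h with h | h
  · exact .inl (by rw [Nat.beq_eq]; exact h)
  · exact .inr (by rw [Nat.beq_eq]; exact h)

/-- **The Baby Monster** (with the classification, for the centralizers of elements of order 19, 23, 31). -/
theorem row_b (hK : H995.CopEngine.AllKnown.{0}) {S : Type u} [Group S] [Finite S] (_ : IsSimpleGroup S)
    (hS : Spor.IsoB S) : H730.OZ.Row S := by
  have hN : Nat.card S = NB := NotCT.Orders.b hS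
  have h3 : Cfsg.Agent.H715.Mon.Grp.SThree.{0} := Cfsg.Agent.H715.Mon.Grp.sThree ⟨OrdDiv.table, hK⟩
  refine row_of fun χ x h => ?_
  have h4 : 4 ≤ cent x := four_le_cent h (by rw [hN]; norm_num) (by rw [hN]; norm_num)
  have hdN := deg_dvd χ
  have hd1 := one_lt_deg h
  have hsq := cent_mul_sq_le h
  -- no full powers
  have nf : ∀ r n : ℕ, r.Prime → n ≠ 0 → r ^ n ∣ NB → ¬ r ^ (n + 1) ∣ NB → (1 + NB / r ^ n) % r ^ n ≠ 0 →
      ¬ r ^ n ∣ charDegree (χ : S → ℂ) := fun r n hr hn h1 h2 h5 =>
    not_full h hr hn (by rw [hN]; exact h1) (by rw [hN]; exact h2) (by rw [hN]; exact h5)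
  have n2 := nf 2 41 (by norm_num) (by norm_num) (by norm_num) (by norm_num) (by norm_num)
  have n3 := nf 3 13 (by norm_num) (by norm_num) (by norm_num) (by norm_num) (by norm_num)
  have n5 := nf 5 6 (by norm_num) (by norm_num) (by norm_num) (by norm_num) (by norm_num)
  have n7 := nf 7 2 (by norm_num) (by norm_num) (by norm_num) (by norm_num) (by norm_num)
  have n11 := nf 11 1 (by norm_num) (by norm_num) (by norm_num) (by norm_num) (by norm_num)
  have n13 := nf 13 1 (by norm_num) (by norm_num) (by norm_num) (by norm_num) (by norm_num)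
  have n17 := nf 17 1 (by norm_num) (by norm_num) (by norm_num) (by norm_num) (by norm_num)
  have n31 := nf 31 1 (by norm_num) (by norm_num) (by norm_num) (by norm_num) (by norm_num)
  have n47 := nf 47 1 (by norm_num) (by norm_num) (by norm_num) (by norm_num) (by norm_num)
  -- isolated primes
  have i31 := iso_mod h (p := 31) (by norm_num) (by norm_num) (by rw [hN]; norm_num) (by rw [hN]; norm_num)
    (by rw [hN]; norm_num) (fun y hy => Cfsg.Agent.H715.Mon.Exact.B.cent31 h3 hS hy) h4
  have i47 := iso_mod h (p := 47) (by norm_num) (by norm_num) (by rw [hN]; norm_num) (by rw [hN]; norm_num)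
    (by rw [hN]; norm_num) (fun y hy => Cfsg.Agent.H954.DR.CentB.cent47 hS hy) h4
  -- `|C(z)| = 2 p`
  have two : ∀ p : ℕ, p.Prime → 7 ≤ p → p ∣ NB → ¬ p ^ 2 ∣ NB → NB ≠ p →
      (∀ z : S, orderOf z = p → Nat.card (Subgroup.centralizer ({z} : Set S)) = 2 * p) →
      charDegree (χ : S → ℂ) % p = 1 ∨ charDegree (χ : S → ℂ) % p = p - 1 := by
    intro p hp h7 hd h2 hG hC
    have hF : Fact p.Prime := ⟨hp⟩
    obtain ⟨z, hz⟩ := exists_prime_orderOf_dvd_card' (G := S) p (by rw [hN]; exact hd)
    have hx : ¬ p ∣ orderOf x := by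
      rcases Nat.lt_or_ge p (cent x) with h5 | h5
      · exact H733.OZ.not_dvd_orderOf h hp (n := 1) (by rw [pow_one, hN]; exact hd) (by rw [hN]; exact h2)
          (by rw [pow_one]; exact h5)
      · exact H849.OZ.not_dvd_of_le hp (by rw [hN]; exact h2) hz (by rw [hC z hz]; omega) h5
    exact H849.OZ.mod_of_two hp h7 (by rw [hN]; exact h2) (by rw [hN]; exact hG) hz (hC z hz) h hx h4
  have m19 := two 19 (by norm_num) (by norm_num) (by norm_num) (by norm_num) (by norm_num)
    (fun z hz => Cfsg.Agent.H715.Mon.Exact.B.cent19 h3 hS hz)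
  have m23 := two 23 (by norm_num) (by norm_num) (by norm_num) (by norm_num) (by norm_num)
    (fun z hz => Cfsg.Agent.H715.Mon.Exact.B.cent23 h3 hS hz)
  rw [hN] at hdN hsq
  generalize hd : charDegree (χ : S → ℂ) = d at *
  have m31 : d % 31 = 1 ∨ d % 31 = 31 - 1 := i31.resolve_left fun h5 => n31 (by
    rw [pow_one]; exact Nat.dvd_of_mod_eq_zero h5)
  have m47 : d % 47 = 1 ∨ d % 47 = 47 - 1 := i47.resolve_left fun h5 => n47 (by
    rw [pow_one]; exact Nat.dvd_of_mod_eq_zero h5)
  have hlt : d * d < NB := by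
    have h5 : cent x * d ^ 2 ≤ NB + cent x := hsq
    have h6 : cent x * (d ^ 2 - 1) ≤ NB := by
      rw [Nat.mul_sub, mul_one]
      omega
    have h7 : 4 * (d ^ 2 - 1) ≤ NB := (Nat.mul_le_mul_right _ h4).trans h6
    rw [pow_two] at h7
    have h8 : NB = 4154781481226426191177580544000000 := rfl
    omega
  have hs := Cfsg.Agent.H635.Spor.allF_sound (N := NB) (f := tst) [(2, 40), (3, 12), (5, 5), (7, 1)] 1 d
    (by
      intro x hx
      simp only [List.mem_cons, List.not_mem_nil, or_false] at hx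
      rcases hx with rfl | rfl | rfl | rfl <;> norm_num)
    (by omega)
    (by
      intro r hr hrd
      rcases prime_cases hr (hrd.trans hdN) with rfl | rfl | rfl | rfl | rfl | rfl | rfl | rfl | rfl | rfl | rfl
      · simp
      · simp
      · simp
      · simp
      · exact absurd hrd (by rwa [pow_one] at n11)
      · exact absurd hrd (by rwa [pow_one] at n13)
      · exact absurd hrd (by rwa [pow_one] at n17)
      · omega
      · omega
      · omega
      · omega)
    (by
      intro x hx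
      simp only [List.mem_cons, List.not_mem_nil, or_false] at hx
      rcases hx with rfl | rfl | rfl | rfl
      · exact n2
      · exact n3
      · exact n5
      · exact n7)
    sieve (by rwa [one_mul])
  rw [one_mul, tst, pm_of m47, pm_of m31, pm_of m23, pm_of m19] at hs
  have h5 : Nat.ble d 1 = false := by
    rw [← Bool.not_eq_true, Nat.ble_eq]
    omega
  rw [h5] at hs
  exact absurd hs (by decide)

end Cfsg.Agent.H601.OZ
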